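import Mathlib
import Groth.Agent.BlowExistsLib.Glue
import Groth.Agent.BlowExistsLib.Proper

/-!
# A criterion for a morphism to be a blowing up, in terms of charts
-/

set_option autoImplicit false
set_option backward.isDefEq.respectTransparency false
set_option backward.isDefEq.respectTransparency.types false
set_option linter.style.haveILetI false

universe u

open CategoryTheory CategoryTheory.Limits AlgebraicGeometry TopologicalSpace
open Groth.Agent.BlowChartLib Groth.Agent.BlowExistsLib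

noncomputable section

namespace Groth.Agent.BirBlowLib

variable {X X' : Scheme.{u}} (f : X' ⟶ X) (I : X.IdealSheafData)

theorem isEffCartier_of_charts {ι : Type*} (U : ι → X.affineOpens) (t : ∀ i, Γ(X, (U i).1))
    (hcov : ∀ x : X', ∃ i, x ∈ chartOpen I (U i) (t i) f) : BlowUp.IsEffCartierIdeal (I.comap f) := fun x => by
  obtain ⟨i, hi⟩ := hcov x
  obtain ⟨⟨V, e, hn, hI⟩, hxV⟩ := Opens.mem_iSup.1 hi
  exact ⟨V, hxV, _, hn, hI⟩

/-- A morphism is the blowing up as soon as its generation loci are the charts and cover. -/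
theorem isBlowUp_of_charts {ι : Type*} (U : ι → X.affineOpens) (t : ∀ i, Γ(X, (U i).1))
    (ht : ∀ i, t i ∈ I.ideal (U i))
    (hcov : ∀ (W : Scheme.{u}) (g : W ⟶ X), BlowUp.IsEffCartierIdeal (I.comap g) →
      ∀ w : W, ∃ i, w ∈ chartOpen I (U i) (t i) g)
    (hcov' : ∀ x : X', ∃ i, x ∈ chartOpen I (U i) (t i) f)
    (hiso : ∀ i, ∃ m : (chartOpen I (U i) (t i) f).toScheme ⟶ Spec (CommRingCat.of (ChartAlg I (U i) (t i))),
      IsIso m ∧ m ≫ chartMap I (U i) (t i) = (chartOpen I (U i) (t i) f).ι ≫ f) :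
    BlowUp.IsBlowUp f I := by
  have hc := isEffCartier_of_charts f I U t hcov'
  obtain ⟨B, b, hb⟩ := BlowExistsLib.exists_isBlowUp I
  obtain ⟨h, hh, -⟩ := hb.2 X' f hc
  haveI : IsIso h := by
    refine (IsZariskiLocalAtTarget.iff_of_iSup_eq_top (P := MorphismProperty.isomorphisms Scheme.{u})
      (fun i => chartOpen I (U i) (t i) b) (top_le_iff.1 fun x _ => ?_)).2 fun i => ?_
    · obtain ⟨i, hi⟩ := hcov B b hb.1 x
      exact Opens.mem_iSup.2 ⟨i, hi⟩
    show IsIso (h ∣_ chartOpen I (U i) (t i) b)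
    obtain ⟨m, hm, hmc⟩ := hiso i
    let C := chartOpen I (U i) (t i) b
    let W := chartOpen I (U i) (t i) f
    have hW : h ⁻¹ᵁ C = W := by
      show h ⁻¹ᵁ chartOpen I (U i) (t i) b = chartOpen I (U i) (t i) f
      rw [preimage_chartOpen h b hb.1 (by rw [hh]; exact hc) (ht i), hh]
    have hme : m ≫ emb hb (ht i) = W.ι ≫ h := by
      obtain ⟨w, -, hw⟩ := hb.2 _ (W.ι ≫ f) (by
        rw [Scheme.IdealSheafData.comap_comp]; exact BlowCompLib.isEffCartier_comap_openImmersion hc _)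
      rw [hw (m ≫ emb hb (ht i)) ((Category.assoc _ _ _).trans
          ((congrArg (m ≫ ·) (emb_comp hb (ht i))).trans hmc)),
        hw (W.ι ≫ h) ((Category.assoc _ _ _).trans (congrArg (W.ι ≫ ·) hh))]
    haveI : IsOpenImmersion (W.ι ≫ h) := hme ▸ inferInstance
    have key : ∀ W' : X'.Opens, h ⁻¹ᵁ C = W' → IsOpenImmersion (W'.ι ≫ h) → IsOpenImmersion (h ∣_ C) := by
      rintro _ rfl h1
      haveI : IsOpenImmersion ((h ∣_ C) ≫ C.ι) := (morphismRestrict_ι h C).symm ▸ h1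
      exact IsOpenImmersion.of_comp _ C.ι
    haveI : IsOpenImmersion (h ∣_ C) := key W hW inferInstance
    refine (isIso_iff_isOpenImmersion_and_surjective _).2 ⟨inferInstance, ⟨fun c => ?_⟩⟩
    obtain ⟨y, hy⟩ : (c.1 : B) ∈ (emb hb (ht i)).opensRange := by
      rw [opensRange_emb]; exact c.2
    let x : W := inv m y
    have hx : h x.1 = c.1 := by
      show (W.ι ≫ h) x = c.1
      rw [← hme, ← hy]
      show (inv m ≫ m ≫ emb hb (ht i)) y = _
      rw [IsIso.inv_hom_id_assoc]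
    refine ⟨⟨x.1, show h x.1 ∈ C from hx ▸ c.2⟩, Subtype.ext ?_⟩
    show C.ι ((h ∣_ C) _) = c.1
    rw [← Scheme.Hom.comp_apply, morphismRestrict_ι]
    exact hx
  refine ⟨hc, fun Y g hg => ?_⟩
  obtain ⟨w, hw, huniq⟩ := hb.2 Y g hg
  refine ⟨w ≫ inv h, ?_, fun v hv => ?_⟩
  · show (w ≫ inv h) ≫ f = g
    rw [← hh, Category.assoc, IsIso.inv_hom_id_assoc, hw]
  · rw [← huniq (v ≫ h) (by show (v ≫ h) ≫ b = g; rw [Category.assoc, hh, hv]), Category.assoc,
      IsIso.hom_inv_id, Category.comp_id]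

theorem bijective_of_gen {A R : Type u} [CommRing A] [CommRing R] {J : Ideal A} {a : A}
    (ψ : A →+* R) (φ : BlowUp.affineAlgebra A J a →+* R) (hφ : φ.comp (algebraMap A _) = ψ)
    (hψ : Function.Injective ψ) (hn : ψ a ∈ nonZeroDivisors R)
    (hgen : Subring.closure (Set.range ψ ∪ {y | ∃ x ∈ J, ψ x = y * ψ a}) = ⊤) : Function.Bijective φ := by
  have hr : ∀ r, φ (algebraMap A _ r) = ψ r := fun r => RingHom.congr_fun hφ r
  constructor
  · rw [injective_iff_map_eq_zero]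
    intro z hz
    obtain ⟨⟨r, _, n, rfl⟩, hzr⟩ := IsLocalization.surj (Submonoid.powers a) z.1
    have h1 : z * algebraMap A _ (a ^ n) = algebraMap A (BlowUp.affineAlgebra A J a) r := Subtype.ext hzr
    have h2 := congrArg φ h1
    rw [map_mul, hz, zero_mul, hr] at h2
    rw [hψ (h2.symm.trans (map_zero ψ).symm), map_zero, map_pow] at h1
    exact (mul_right_mem_nonZeroDivisors_eq_zero_iff (pow_mem BlowChartLib.mem_nonZeroDivisors n)).1 h1
  · intro y
    have hle : Subring.closure (Set.range ψ ∪ {y | ∃ x ∈ J, ψ x = y * ψ a}) ≤ φ.range := by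
      rw [Subring.closure_le]
      rintro y (⟨r, rfl⟩ | ⟨x, hx, hxy⟩)
      · exact ⟨_, hr r⟩
      · refine ⟨frac x hx, (mul_cancel_right_mem_nonZeroDivisors hn).1 ?_⟩
        rw [← hxy, ← hr a, ← map_mul, frac_mul, hr]
    exact hle (hgen ▸ Subring.mem_top y)

variable {U : X.affineOpens} {a : Γ(X, U.1)}

/-- An affine open with the ring of the chart is the chart. -/
theorem exists_iso_chart (ha : a ∈ I.ideal U) (V : X'.affineOpens) (e : V.1 ≤ f ⁻¹ᵁ U.1)
    (hψ : Function.Injective (f.appLE U.1 V.1 e).hom)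
    (hn : (f.appLE U.1 V.1 e).hom a ∈ nonZeroDivisors Γ(X', V.1))
    (hdiv : ∀ x ∈ I.ideal U, ∃ y, (f.appLE U.1 V.1 e).hom x = y * (f.appLE U.1 V.1 e).hom a)
    (hgen : Subring.closure (Set.range (f.appLE U.1 V.1 e).hom ∪
      {y | ∃ x ∈ I.ideal U, (f.appLE U.1 V.1 e).hom x = y * (f.appLE U.1 V.1 e).hom a}) = ⊤) :
    V.1 ≤ chartOpen I U a f ∧ ∃ m : V.1.toScheme ⟶ Spec (CommRingCat.of (ChartAlg I U a)),
      IsIso m ∧ m ≫ chartMap I U a = V.1.ι ≫ f := by
  set ψ := (f.appLE U.1 V.1 e).hom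
  have hI : (I.ideal U).map ψ = Ideal.span {ψ a} := by
    refine le_antisymm (Ideal.map_le_iff_le_comap.2 fun x hx => ?_)
      ((Ideal.span_singleton_le_iff_mem _).2 (Ideal.mem_map_of_mem _ ha))
    obtain ⟨y, hy⟩ := hdiv x hx
    exact Ideal.mem_span_singleton'.2 ⟨y, hy.symm⟩
  refine ⟨le_iSup_of_le (⟨V, e, hn, by rw [IdealStalkLib.comap_ideal I f U.2 V.2 e]; exact hI⟩ :
    {V : X'.affineOpens // IsGood I U a f V}) le_rfl, ?_⟩
  obtain ⟨φ, hφ⟩ := BlowChartLib.exists_hom (I := I.ideal U) ψ hn hI.le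
  haveI : IsIso (CommRingCat.ofHom φ) :=
    (RingEquiv.ofBijective φ (bijective_of_gen ψ φ hφ hψ hn hgen)).toCommRingCatIso.isIso_hom
  refine ⟨V.2.isoSpec.hom ≫ Spec.map (CommRingCat.ofHom φ), inferInstance, ?_⟩
  rw [← cancel_epi V.2.isoSpec.inv]
  simp only [Category.assoc, Iso.inv_hom_id_assoc, chartMap]
  rw [← Spec.map_comp_assoc, show CommRingCat.ofHom (algebraMap Γ(X, U.1) (ChartAlg I U a)) ≫ CommRingCat.ofHom φ =
    f.appLE U.1 V.1 e from CommRingCat.hom_ext hφ, IsAffineOpen.SpecMap_appLE_fromSpec f U.2 V.2 e,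
    IsAffineOpen.fromSpec, Category.assoc]

/-- On an irreducible scheme separated over the base the generation locus is that affine open. -/
theorem chartOpen_eq [IrreducibleSpace X'] [IsSeparated f] (ha : a ∈ I.ideal U)
    (hc : BlowUp.IsEffCartierIdeal (I.comap f)) (V : X'.Opens) (hVne : (V : Set X').Nonempty)
    (hle : V ≤ chartOpen I U a f) (m : V.toScheme ⟶ Spec (CommRingCat.of (ChartAlg I U a))) [IsIso m]
    (hm : m ≫ chartMap I U a = V.ι ≫ f) : chartOpen I U a f = V := by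
  let W := chartOpen I U a f
  have hcW : BlowUp.IsEffCartierIdeal (I.comap (W.ι ≫ f)) := by
    rw [Scheme.IdealSheafData.comap_comp]; exact BlowCompLib.isEffCartier_comap_openImmersion hc _
  have htop : chartOpen I U a (W.ι ≫ f) = ⊤ := by
    rw [← preimage_chartOpen W.ι f hc hcW ha]
    exact top_le_iff.1 fun w _ => w.2
  obtain ⟨m₀, hm₀⟩ := exists_lift_chart (W.ι ≫ f) htop ha
  have hj : X'.homOfLE hle ≫ m₀ = m := by
    refine (lift_chart_unique ha (m := m) (m' := X'.homOfLE hle ≫ m₀) ?_ ?_).symm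
    · rw [hm, Scheme.IdealSheafData.comap_comp]; exact BlowCompLib.isEffCartier_comap_openImmersion hc _
    · rw [hm, Category.assoc, hm₀, Scheme.homOfLE_ι_assoc]
  haveI : IsSeparated (m₀ ≫ chartMap I U a) := hm₀ ▸ inferInstance
  haveI : IsSeparated m₀ := IsSeparated.of_comp m₀ (chartMap I U a)
  let s := inv m ≫ X'.homOfLE hle
  haveI : IsClosedImmersion (s ≫ m₀) := by
    rw [show s ≫ m₀ = 𝟙 _ by rw [Category.assoc, hj, IsIso.inv_hom_id]]
    infer_instance
  haveI : IsClosedImmersion s := IsClosedImmersion.of_comp s m₀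
  have hcl : IsClosed (Set.range (X'.homOfLE hle)) := by
    haveI : IsClosedImmersion (m ≫ s) := inferInstance
    rw [show X'.homOfLE hle = m ≫ s by rw [IsIso.hom_inv_id_assoc]]
    exact (m ≫ s).isClosedEmbedding.isClosed_range
  have hrange : Set.range (X'.homOfLE hle) = W.ι ⁻¹' (V : Set X') := by
    ext w
    constructor
    · rintro ⟨v, rfl⟩
      show W.ι (X'.homOfLE hle v) ∈ V
      rw [← Scheme.Hom.comp_apply, Scheme.homOfLE_ι]
      exact v.2
    · intro hw
      refine ⟨⟨w.1, hw⟩, Subtype.ext ?_⟩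
      show W.ι (X'.homOfLE hle _) = w.1
      rw [← Scheme.Hom.comp_apply, Scheme.homOfLE_ι]
      rfl
  rw [hrange] at hcl
  refine le_antisymm (fun w hw => ?_) hle
  obtain ⟨C, hC, hCe⟩ := isClosed_induced_iff.1 hcl
  have hVC : (V : Set X') ⊆ C := fun v hv => (Set.ext_iff.1 hCe ⟨v, hle hv⟩).2 hv
  have hd : Dense (V : Set X') := V.isOpen.dense hVne
  exact (Set.ext_iff.1 hCe ⟨w, hw⟩).1 (closure_minimal hVC hC (hd w))

end Groth.Agent.BirBlowLib
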