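import Mathlib
import Groth.Agent.BirBlowLib.Core

/-!
# A finite birational morphism which is an isomorphism off a Cartier divisor is a blowing up
-/

set_option autoImplicit false
set_option backward.isDefEq.respectTransparency false
set_option linter.style.haveILetI false

universe u

open CategoryTheory CategoryTheory.Limits AlgebraicGeometry TopologicalSpace Polynomial
open Groth.Agent.BlowChartLib Groth.Agent.BlowExistsLib

noncomputable section

namespace Groth.Agent.BirBlowLib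

variable {X Y : Scheme.{u}} (f : X ⟶ Y)

theorem bijective_app_of_isIso_restrict (W : Y.Opens) (h : IsIso (f ∣_ W)) {D : Y.Opens} (hD : D ≤ W) :
    Function.Bijective (f.app D) := by
  haveI := h
  have h1 : IsIso ((f ∣_ W).app (W.ι ⁻¹ᵁ D)) := inferInstance
  rw [morphismRestrict_app] at h1
  have key : ∀ D' : Y.Opens, D' = D → IsIso (f.app D') → Function.Bijective (f.app D) := by
    rintro _ rfl h2
    exact ConcreteCategory.bijective_of_isIso _
  refine key (W.ι ''ᵁ (W.ι ⁻¹ᵁ D)) ?_ (@IsIso.of_isIso_comp_right _ _ _ _ _ _ _ inferInstance h1)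
  rw [Scheme.Hom.image_preimage_eq_opensRange_inf, Scheme.Opens.opensRange_ι]
  exact inf_eq_right.2 hD

variable [IsReduced X] [IsFinite f] (L : Y.IdealSheafData) (hiso : IsIso (f ∣_ L.support.compl))
  (hdense : Dense (f.base ⁻¹' ((L.support : Set Y)ᶜ))) {U : Y.affineOpens} {α : Γ(Y, U.1)}
  (hα : α ∈ nonZeroDivisors Γ(Y, U.1)) (hLU : L.ideal U = Ideal.span {α})

include hLU in
theorem basicOpen_le_compl : Y.basicOpen α ≤ L.support.compl := fun y hy hys => by
  have h : y ∈ L.support := hys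
  rw [Scheme.IdealSheafData.mem_support_iff_of_mem (U := U) (Y.basicOpen_le α hy), hLU, Scheme.zeroLocus_span,
    Scheme.mem_zeroLocus_iff] at h
  exact h α rfl hy

include hLU in
theorem compl_inf_le : L.support.compl ⊓ U.1 ≤ Y.basicOpen α := fun y hy => by
  by_contra h
  refine hy.1 ?_
  show y ∈ L.support
  rw [Scheme.IdealSheafData.mem_support_iff_of_mem (U := U) hy.2, hLU, Scheme.zeroLocus_span,
    Scheme.mem_zeroLocus_iff]
  simp only [Set.mem_singleton_iff, forall_eq]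
  exact h

include hiso hα hLU in
theorem app_injective : Function.Injective (f.app U.1).hom := by
  rw [injective_iff_map_eq_zero]
  intro r hr
  let ρ := (Y.presheaf.map (homOfLE (Y.basicOpen_le α)).op).hom
  have h0 : ρ r = 0 := by
    refine (bijective_app_of_isIso_restrict f _ hiso (basicOpen_le_compl L hLU)).1 ?_
    rw [map_zero]
    exact (ConcreteCategory.congr_hom (f.naturality (homOfLE (Y.basicOpen_le α)).op) r).trans
      ((congrArg _ hr).trans (map_zero (X.presheaf.map ((Opens.map f.base).map (homOfLE (Y.basicOpen_le α))).op).hom))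
  letI : Algebra Γ(Y, U.1) Γ(Y, Y.basicOpen α) := ρ.toAlgebra
  haveI : IsLocalization.Away α Γ(Y, Y.basicOpen α) := U.2.isLocalization_basicOpen α
  obtain ⟨⟨_, n, rfl⟩, hn⟩ := (IsLocalization.map_eq_zero_iff (Submonoid.powers α) _ r).1 h0
  exact (mul_left_mem_nonZeroDivisors_eq_zero_iff (pow_mem hα n)).1 hn

include hdense hLU in
theorem app_mem_nonZeroDivisors : f.app U.1 α ∈ nonZeroDivisors Γ(X, f ⁻¹ᵁ U.1) := by
  refine mem_nonZeroDivisors_iff_right.2 fun b hb => ?_
  by_contra hb0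
  have hne : (X.basicOpen b : Set X).Nonempty := by
    by_contra he
    exact hb0 ((basicOpen_eq_bot_iff b).1 (Opens.ext (Set.not_nonempty_iff_eq_empty.1 he)))
  obtain ⟨x, hxb, hxL⟩ := hdense.inter_open_nonempty _ (X.basicOpen b).isOpen hne
  have hxU : x ∈ f ⁻¹ᵁ U.1 := X.basicOpen_le b hxb
  have hxα : x ∈ X.basicOpen (f.app U.1 α) := by
    rw [← Scheme.preimage_basicOpen]
    exact compl_inf_le L hLU ⟨hxL, hxU⟩
  have h1 := ((X.mem_basicOpen b x hxU).1 hxb).mul ((X.mem_basicOpen _ x hxU).1 hxα)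
  rw [← map_mul, hb, map_zero] at h1
  exact not_isUnit_zero h1

include hiso hLU in
theorem exists_pow_mul_mem (b : Γ(X, f ⁻¹ᵁ U.1)) : ∃ (n : ℕ) (a : Γ(Y, U.1)), f.app U.1 a = f.app U.1 α ^ n * b := by
  let ρ := (Y.presheaf.map (homOfLE (Y.basicOpen_le α)).op).hom
  let ρ' := (X.presheaf.map ((Opens.map f.base).map (homOfLE (Y.basicOpen_le α))).op).hom
  have hnat : ∀ z, f.app (Y.basicOpen α) (ρ z) = ρ' (f.app U.1 z) := fun z =>
    ConcreteCategory.congr_hom (f.naturality (homOfLE (Y.basicOpen_le α)).op) z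
  obtain ⟨c, hc⟩ := (bijective_app_of_isIso_restrict f _ hiso (basicOpen_le_compl L hLU)).2 (ρ' b)
  letI : Algebra Γ(Y, U.1) Γ(Y, Y.basicOpen α) := ρ.toAlgebra
  haveI : IsLocalization.Away α Γ(Y, Y.basicOpen α) := U.2.isLocalization_basicOpen α
  obtain ⟨⟨a, _, n, rfl⟩, han⟩ := IsLocalization.surj (Submonoid.powers α) c
  have h1 : ρ' (f.app U.1 (a : Γ(Y, U.1))) = ρ' (f.app U.1 α ^ n * b) := by
    rw [← hnat, show ρ a = c * ρ (α ^ n) from han.symm, map_mul, hc, hnat, map_pow, map_mul, map_pow, mul_comm]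
  have hkey : ∀ (W : X.Opens) (hW : W ≤ f ⁻¹ᵁ U.1), W = X.basicOpen (f.app U.1 α) → ∀ z,
      X.presheaf.map (homOfLE hW).op z = 0 → ∃ k : ℕ, f.app U.1 α ^ k * z = 0 := by
    rintro _ _ rfl z hz
    letI : Algebra Γ(X, f ⁻¹ᵁ U.1) Γ(X, X.basicOpen (f.app U.1 α)) :=
      (X.presheaf.map (homOfLE (X.basicOpen_le _)).op).hom.toAlgebra
    haveI : IsLocalization.Away (f.app U.1 α) Γ(X, X.basicOpen (f.app U.1 α)) :=
      (U.2.preimage f).isLocalization_basicOpen _
    obtain ⟨⟨_, k, rfl⟩, hk⟩ := (IsLocalization.map_eq_zero_iff (Submonoid.powers (f.app U.1 α)) _ z).1 hz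
    exact ⟨k, hk⟩
  obtain ⟨k, hk⟩ := hkey (f ⁻¹ᵁ Y.basicOpen α) (fun x hx => Y.basicOpen_le α hx) (Scheme.preimage_basicOpen f α)
    (f.app U.1 a - f.app U.1 α ^ n * b) (by
      rw [map_sub, sub_eq_zero]
      exact h1)
  rw [mul_sub, sub_eq_zero] at hk
  exact ⟨k + n, α ^ k * a, by rw [map_mul, map_pow, hk, pow_add, mul_assoc]⟩

include hiso hLU in
theorem exists_uniform : ∃ N : ℕ, ∀ n, N ≤ n → ∀ b : Γ(X, f ⁻¹ᵁ U.1),
    ∃ a : Γ(Y, U.1), f.app U.1 a = f.app U.1 α ^ n * b := by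
  classical
  letI : Algebra Γ(Y, U.1) Γ(X, f ⁻¹ᵁ U.1) := (f.app U.1).hom.toAlgebra
  haveI : Module.Finite Γ(Y, U.1) Γ(X, f ⁻¹ᵁ U.1) := f.finite_app U.1 U.2
  obtain ⟨r, g, hg⟩ := Module.Finite.exists_fin (R := Γ(Y, U.1)) (M := Γ(X, f ⁻¹ᵁ U.1))
  choose n a ha using fun l => exists_pow_mul_mem f L hiso hLU (g l)
  refine ⟨Finset.univ.sup n, fun m hm b => ?_⟩
  have hb : b ∈ Submodule.span Γ(Y, U.1) (Set.range g) := hg ▸ Submodule.mem_top
  induction hb using Submodule.span_induction with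
  | mem x hx =>
    obtain ⟨l, rfl⟩ := hx
    obtain ⟨e, he⟩ := Nat.exists_eq_add_of_le ((Finset.le_sup (f := n) (Finset.mem_univ l)).trans hm)
    exact ⟨α ^ e * a l, by rw [map_mul, map_pow, ha, he, pow_add]; ring⟩
  | zero => exact ⟨0, by simp⟩
  | add x y _ _ hx hy =>
    obtain ⟨c, hc⟩ := hx; obtain ⟨d, hd⟩ := hy
    exact ⟨c + d, by rw [map_add, hc, hd, mul_add]⟩
  | smul z x _ hx =>
    obtain ⟨c, hc⟩ := hx
    refine ⟨z * c, ?_⟩
    rw [map_mul, hc]
    show _ = f.app U.1 α ^ m * (f.app U.1 z * x)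
    ring

variable {n : ℕ}

/-- The centre. -/
def finCentre (n : ℕ) : Y.IdealSheafData := ((L ^ n).comap f).map f

include hLU in
omit [IsReduced X] in
theorem finCentre_ideal : (finCentre f L n).ideal U = (Ideal.span {f.app U.1 α ^ n}).comap (f.app U.1).hom := by
  rw [finCentre, Scheme.IdealSheafData.ideal_map_of_isAffineHom,
    IdealStalkLib.comap_ideal (L ^ n) f U.2 (U.2.preimage f) le_rfl, Scheme.IdealSheafData.ideal_pow, Pi.pow_apply,
    hLU, Ideal.span_singleton_pow, Ideal.map_span, Set.image_singleton, map_pow, ← Scheme.Hom.app_eq_appLE]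

theorem exists_monic_rel {z : Γ(Y, U.1)} (hψ : Function.Injective (f.app U.1).hom)
    (hz : z ∈ (Ideal.span {f.app U.1 α ^ n}).comap (f.app U.1).hom) :
    ∃ P : Polynomial Γ(Y, U.1), P.Monic ∧ (P.scaleRoots (α ^ n)).eval z = 0 := by
  obtain ⟨b, hb⟩ := Ideal.mem_span_singleton'.1 (Ideal.mem_comap.1 hz)
  obtain ⟨P, hP, hPb⟩ := (IsFinite.finite_app f U.1 U.2).to_isIntegral b
  refine ⟨P, hP, hψ ?_⟩
  rw [map_zero, ← Polynomial.eval₂_at_apply (f.app U.1).hom z]
  have h := Polynomial.scaleRoots_eval₂_eq_zero (s := α ^ n) (f.app U.1).hom hPb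
  rw [map_pow, mul_comm] at h
  exact hb ▸ h

include hLU in
theorem pow_mem_finCentre : α ^ n ∈ (finCentre f L n).ideal U := by
  rw [finCentre_ideal f L hLU, Ideal.mem_comap, map_pow]
  exact Ideal.mem_span_singleton_self _

include hiso hα hLU in
theorem mem_chartOpen_pow (W : Scheme.{u}) (g : W ⟶ Y) (hg : BlowUp.IsEffCartierIdeal ((finCentre f L n).comap g))
    (w : W) (hw : g w ∈ U.1) : w ∈ chartOpen (finCentre f L n) U (α ^ n) g := by
  obtain ⟨z, hz, hwz⟩ := BlowExistsLib.exists_mem_chartOpen hg ((finCentre f L n).ideal U : Set Γ(Y, U.1))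
    (Ideal.span_eq _) w hw
  have hsz := (stalk_generated hwz).2
  refine mem_chartOpen_of_stalk hg (pow_mem_finCentre f L hLU) hw ?_
  let γ : Γ(Y, U.1) →+* W.presheaf.stalk w := ((g.stalkMap w).hom).comp (Y.presheaf.germ U.1 (g w) hw).hom
  show IntMult.stalkIdeal _ w = Ideal.span {γ (α ^ n)}
  have hsz' : IntMult.stalkIdeal ((finCentre f L n).comap g) w = Ideal.span {γ z} := hsz
  obtain ⟨d, hd⟩ : ∃ d, d * γ z = γ (α ^ n) :=
    Ideal.mem_span_singleton'.1 (hsz'.le (gerA_mem g w hw (pow_mem_finCentre f L hLU)))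
  suffices hu : IsUnit d by rw [hsz', ← hd, Ideal.span_singleton_mul_left_unit hu]
  have hφ := generator_mem_nonZeroDivisors hg w hsz'
  have hz' : z ∈ (Ideal.span {f.app U.1 α ^ n}).comap (f.app U.1).hom := finCentre_ideal f L hLU ▸ hz
  obtain ⟨P, hP, hPz⟩ := exists_monic_rel f (app_injective f L hiso hα hLU) hz'
  have h := congrArg γ hPz
  rw [map_zero, Polynomial.eval_eq_sum_range, Polynomial.natDegree_scaleRoots, map_sum] at h
  have h2 : (∑ i ∈ Finset.range (P.natDegree + 1), γ (P.coeff i) * d ^ (P.natDegree - i)) * γ z ^ P.natDegree = 0 := by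
    rw [← h, Finset.sum_mul]
    refine Finset.sum_congr rfl fun i hi => ?_
    obtain ⟨e, he⟩ := Nat.exists_eq_add_of_le (Nat.lt_succ_iff.1 (Finset.mem_range.1 hi))
    rw [Polynomial.coeff_scaleRoots, map_mul, map_mul, map_pow γ (α ^ n), map_pow γ z, ← hd, he, Nat.add_sub_cancel_left]
    ring
  have h3 := (mul_right_mem_nonZeroDivisors_eq_zero_iff (pow_mem hφ P.natDegree)).1 h2
  rw [Finset.sum_range_succ, Nat.sub_self, pow_zero, mul_one, hP.coeff_natDegree, map_one] at h3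
  refine isUnit_of_dvd_one ?_
  rw [show (1 : W.presheaf.stalk w) = -∑ i ∈ Finset.range P.natDegree, γ (P.coeff i) * d ^ (P.natDegree - i) from
    eq_neg_of_add_eq_zero_right h3, dvd_neg]
  exact Finset.dvd_sum fun i hi => Dvd.dvd.mul_left
    (dvd_pow_self d (Nat.sub_ne_zero_of_lt (Finset.mem_range.1 hi))) _

include hiso hα hLU in
theorem mem_support_finCentre_iff (hn : n ≠ 0) {y : Y} (hy : y ∈ U.1) :
    y ∈ (finCentre f L n).support ↔ y ∈ L.support := by
  rw [Scheme.IdealSheafData.mem_support_iff_of_mem (U := U) hy, Scheme.IdealSheafData.mem_support_iff_of_mem (U := U) hy,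
    hLU, Scheme.zeroLocus_span, Scheme.mem_zeroLocus_iff, Scheme.mem_zeroLocus_iff]
  simp only [Set.mem_singleton_iff, forall_eq]
  constructor
  · intro h
    have h1 := h (α ^ n) (pow_mem_finCentre f L hLU)
    rwa [Scheme.basicOpen_pow _ _ (Nat.pos_of_ne_zero hn)] at h1
  · intro h z hz hyz
    have hz' : z ∈ (Ideal.span {f.app U.1 α ^ n}).comap (f.app U.1).hom := finCentre_ideal f L hLU ▸ hz
    obtain ⟨P, hP, hPz⟩ := exists_monic_rel f (app_injective f L hiso hα hLU) hz'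
    rw [Polynomial.eval_eq_sum_range, Polynomial.natDegree_scaleRoots, Finset.sum_range_succ,
      Polynomial.coeff_scaleRoots, Nat.sub_self, pow_zero, mul_one, hP.coeff_natDegree, one_mul] at hPz
    have hdvd : α ∣ z ^ P.natDegree := by
      rw [eq_neg_of_add_eq_zero_right hPz, dvd_neg]
      refine Finset.dvd_sum fun i hi => Dvd.dvd.mul_right ?_ _
      rw [Polynomial.coeff_scaleRoots]
      exact Dvd.dvd.mul_left (dvd_pow (dvd_pow_self α hn) (Nat.sub_ne_zero_of_lt (Finset.mem_range.1 hi))) _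
    obtain ⟨c, hc⟩ := hdvd
    refine h ((Y.mem_basicOpen α y hy).2 ?_)
    have h2 : IsUnit (Y.presheaf.germ U.1 y hy (α * c)) := by
      rw [← hc, map_pow]
      exact ((Y.mem_basicOpen z y hy).1 hyz).pow _
    rw [map_mul] at h2
    exact isUnit_of_mul_isUnit_left h2

/-- A finite morphism which is an isomorphism off an effective Cartier divisor, with dense preimage of the complement,
is a blow-up. -/
theorem exists_isBlowUp_finite {X Y : Scheme.{u}} [IsNoetherian Y] [IsReduced X] (f : X ⟶ Y) [IsFinite f]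
    (L : Y.IdealSheafData) (hL : BlowUp.IsEffCartierIdeal L) (hiso : IsIso (f ∣_ L.support.compl))
    (hdense : Dense (f.base ⁻¹' ((L.support : Set Y)ᶜ))) :
    ∃ I : Y.IdealSheafData, I.support = L.support ∧ BlowUp.IsBlowUp f I := by
  classical
  choose U hyU α hα hLU using hL
  obtain ⟨s, hs⟩ := isCompact_univ.elim_finite_subcover (fun y : Y => ((U y).1 : Set Y)) (fun y => (U y).1.isOpen)
    fun y _ => Set.mem_iUnion.2 ⟨y, hyU y⟩
  choose N hN using fun y : s => exists_uniform f L hiso (hLU y.1)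
  let n := Finset.univ.sup N + 1
  have hcov : ∀ y : Y, ∃ p : s, y ∈ (U p.1).1 := fun y => by
    obtain ⟨p, hp⟩ := Set.mem_iUnion.1 (hs (Set.mem_univ y))
    obtain ⟨hps, hy⟩ := Set.mem_iUnion.1 hp
    exact ⟨⟨p, hps⟩, hy⟩
  refine ⟨finCentre f L n, ?_, ?_⟩
  · refine SetLike.coe_injective (Set.ext fun y => ?_)
    obtain ⟨p, hp⟩ := hcov y
    exact mem_support_finCentre_iff f L hiso (hα p.1) (hLU p.1) (Nat.succ_ne_zero _) hp
  have hchart : ∀ p : s, f ⁻¹ᵁ (U p.1).1 ≤ chartOpen (finCentre f L n) (U p.1) (α p.1 ^ n) f ∧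
      ∃ m : (f ⁻¹ᵁ (U p.1).1).toScheme ⟶ Spec (CommRingCat.of (ChartAlg (finCentre f L n) (U p.1) (α p.1 ^ n))),
        IsIso m ∧ m ≫ chartMap (finCentre f L n) (U p.1) (α p.1 ^ n) = (f ⁻¹ᵁ (U p.1).1).ι ≫ f := fun p => by
    refine exists_iso_chart f (finCentre f L n) (pow_mem_finCentre f L (hLU p.1))
      ⟨_, (U p.1).2.preimage f⟩ le_rfl ?_ ?_ (fun z hz => ?_) (top_le_iff.1 fun b _ => ?_)
    · rw [← Scheme.Hom.app_eq_appLE]
      exact app_injective f L hiso (hα p.1) (hLU p.1)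
    · rw [← Scheme.Hom.app_eq_appLE, map_pow]
      exact pow_mem (app_mem_nonZeroDivisors f L hdense (hLU p.1)) n
    · rw [finCentre_ideal f L (hLU p.1), Ideal.mem_comap] at hz
      obtain ⟨c, hc⟩ := Ideal.mem_span_singleton'.1 hz
      refine ⟨c, ?_⟩
      rw [← Scheme.Hom.app_eq_appLE, map_pow]
      exact hc.symm
    · refine Subring.subset_closure (Or.inr ?_)
      obtain ⟨a, ha⟩ := hN p n ((Finset.le_sup (Finset.mem_univ p)).trans (Nat.le_succ _)) b
      refine ⟨a, ?_, ?_⟩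
      · rw [finCentre_ideal f L (hLU p.1), Ideal.mem_comap]
        exact Ideal.mem_span_singleton'.2 ⟨b, by rw [mul_comm]; exact ha.symm⟩
      · rw [← Scheme.Hom.app_eq_appLE, map_pow, mul_comm]
        exact ha
  refine isBlowUp_of_charts f (finCentre f L n) (fun p : s => U p.1) (fun p => α p.1 ^ n)
    (fun p => pow_mem_finCentre f L (hLU p.1)) (fun W g hg w => ?_) (fun x => ?_) (fun p => ?_)
  · obtain ⟨p, hp⟩ := hcov (g w)
    exact ⟨p, mem_chartOpen_pow f L hiso (hα p.1) (hLU p.1) W g hg w hp⟩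
  · obtain ⟨p, hp⟩ := hcov (f x)
    exact ⟨p, (hchart p).1 hp⟩
  · obtain ⟨hle, hm⟩ := hchart p
    rw [show chartOpen (finCentre f L n) (U p.1) (α p.1 ^ n) f = f ⁻¹ᵁ (U p.1).1 from
      le_antisymm (chartOpen_le_preimage f) hle]
    exact hm

end Groth.Agent.BirBlowLib
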