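import Mathlib
import Groth.Prelude.Def_CohB1
import Groth.Prelude.Def_BlowUp2
import Groth.Agent.ZeroSchemeLib.Basic
import Groth.Agent.AmpleLib.Basis

/-!
# Fractional ideals generated by rational functions
-/

set_option autoImplicit false
set_option backward.isDefEq.respectTransparency false
set_option linter.style.haveILetI false

universe u

open CategoryTheory CategoryTheory.Limits AlgebraicGeometry TopologicalSpace
open Groth.Agent.AmpleLib

noncomputable section

namespace Groth.Agent.BirBlowLib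

variable {X : Scheme.{u}} [IsIntegral X]

/-- The value at the generic point. -/
abbrev gen (U : X.Opens) (hη : genericPoint X ∈ U) : Γ(X, U) →+* X.functionField :=
  (X.presheaf.germ U (genericPoint X) hη).hom

theorem gen_injective (U : X.Opens) (hη : genericPoint X ∈ U) : Function.Injective (gen U hη) :=
  haveI : Nonempty U := ⟨⟨_, hη⟩⟩
  germ_injective_of_isIntegral X _ hη

theorem gen_res {U V : X.Opens} (h : V ≤ U) (hη : genericPoint X ∈ V) (x : Γ(X, U)) :
    gen V hη (X.presheaf.map (homOfLE h).op x) = gen U (h hη) x :=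
  X.presheaf.germ_res_apply (homOfLE h) _ hη x

theorem generic_mem {U : X.Opens} (h : (U : Set X).Nonempty) : genericPoint X ∈ U :=
  ((genericPoint_spec X).mem_open_set_iff U.isOpen).2 (by simpa using h)

theorem subsingleton_of_notMem {U : X.Opens} (h : genericPoint X ∉ U) : Subsingleton Γ(X, U) := by
  have he : U = ⊥ := eq_bot_iff.2 fun x hx => (h (generic_mem ⟨x, hx⟩)).elim
  subst he
  exact CommRingCat.subsingleton_of_isTerminal X.sheaf.isTerminalOfEmpty

theorem exists_frac (U : X.affineOpens) (g : Γ(X, U.1)) (y : Γ(X, X.basicOpen g)) :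
    ∃ (a : Γ(X, U.1)) (n : ℕ), y * (X.presheaf.map (homOfLE (X.basicOpen_le g)).op) g ^ n =
      X.presheaf.map (homOfLE (X.basicOpen_le g)).op a := by
  letI : Algebra Γ(X, U.1) Γ(X, X.basicOpen g) := (X.presheaf.map (homOfLE (X.basicOpen_le g)).op).hom.toAlgebra
  haveI : IsLocalization.Away g Γ(X, X.basicOpen g) := U.2.isLocalization_basicOpen g
  obtain ⟨⟨a, _, n, rfl⟩, h⟩ := IsLocalization.surj (Submonoid.powers g) y
  exact ⟨a, n, by rw [← map_pow]; exact h⟩

theorem gen_ne_zero {U : X.Opens} {g : Γ(X, U)} (hη : genericPoint X ∈ X.basicOpen g) :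
    gen U (X.basicOpen_le g hη) g ≠ 0 :=
  ((X.mem_basicOpen g _ (X.basicOpen_le g hη)).1 hη).ne_zero

variable {ι : Type} [Fintype ι]

/-- The ideal of common denominators. -/
def denomIdeal (φ : ι → X.functionField) (U : X.Opens) : Ideal Γ(X, U) where
  carrier := {x | ∀ hη : genericPoint X ∈ U, ∀ i, ∃ r, gen U hη x * φ i = gen U hη r}
  add_mem' {a b} ha hb hη i := by
    obtain ⟨r, hr⟩ := ha hη i; obtain ⟨r', hr'⟩ := hb hη i
    exact ⟨r + r', by rw [map_add, map_add, add_mul, hr, hr']⟩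
  zero_mem' hη i := ⟨0, by simp⟩
  smul_mem' c {a} ha hη i := by
    obtain ⟨r, hr⟩ := ha hη i
    exact ⟨c * r, by rw [smul_eq_mul, map_mul, map_mul, mul_assoc, hr]⟩

theorem map_denomIdeal (φ : ι → X.functionField) (U : X.affineOpens) (g : Γ(X, U.1)) :
    (denomIdeal φ U.1).map (X.presheaf.map (homOfLE (X.basicOpen_le g)).op).hom =
      denomIdeal φ (X.basicOpen g) := by
  classical
  set r := (X.presheaf.map (homOfLE (X.basicOpen_le g)).op).hom with hrdef
  refine le_antisymm (Ideal.map_le_iff_le_comap.2 fun x hx hη i => ?_) fun y hy => ?_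
  · obtain ⟨s, hs⟩ := hx (X.basicOpen_le g hη) i
    exact ⟨r s, by rw [hrdef, gen_res, gen_res, hs]⟩
  · obtain ⟨a, n, han⟩ := exists_frac U g y
    have hu : IsUnit (r g) := RingedSpace.isUnit_res_basicOpen _ g
    suffices h : ∃ N, a * g ^ N ∈ denomIdeal φ U.1 by
      obtain ⟨N, hN⟩ := h
      rw [← Ideal.mul_unit_mem_iff_mem _ ((hu.pow n).mul (hu.pow N)), ← mul_assoc,
        show y * r g ^ n = r a from han, ← map_pow, ← map_mul]
      exact Ideal.mem_map_of_mem _ hN
    by_cases hη : genericPoint X ∈ X.basicOpen g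
    swap
    · by_cases hη' : genericPoint X ∈ U.1
      swap
      · exact ⟨0, fun h => (hη' h).elim⟩
      · refine ⟨1, fun h i => ⟨0, ?_⟩⟩
        have hg0 : gen U.1 h g = 0 := by
          by_contra h0
          exact hη ((X.mem_basicOpen g _ h).2 (Ne.isUnit h0))
        rw [map_zero, map_mul, pow_one, hg0, mul_zero, zero_mul]
    have hη' := X.basicOpen_le g hη
    have hgne := gen_ne_zero hη
    have han' : gen _ hη y * gen _ hη' g ^ n = gen _ hη' a := by
      have := congrArg (gen _ hη) han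
      rwa [map_mul, map_pow, gen_res, gen_res] at this
    have hloc : ∀ i, ∃ (b : Γ(X, U.1)) (m : ℕ), gen _ hη y * φ i * gen _ hη' g ^ m = gen _ hη' b := fun i => by
      obtain ⟨s, hs⟩ := hy hη i
      obtain ⟨b, m, hbm⟩ := exists_frac U g s
      refine ⟨b, m, ?_⟩
      have := congrArg (gen _ hη) hbm
      rw [map_mul, map_pow, gen_res, gen_res] at this
      rw [hs, this]
    choose b m hb using hloc
    refine ⟨Finset.univ.sup m, fun h i => ?_⟩
    obtain ⟨e, he⟩ := Nat.exists_eq_add_of_le (Finset.le_sup (f := m) (Finset.mem_univ i))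
    refine ⟨b i * g ^ (n + e), ?_⟩
    rw [map_mul, map_mul, map_pow, map_pow, ← han', ← hb i, he, pow_add, pow_add]
    ring

/-- The ideal sheaf of common denominators. -/
def denom (φ : ι → X.functionField) : X.IdealSheafData where
  ideal U := denomIdeal φ U.1
  map_ideal_basicOpen U g := map_denomIdeal φ U g

/-- The product of an ideal with a rational function, as far as it is regular. -/
def mulIdeal (L : X.IdealSheafData) (φ : X.functionField) (U : X.affineOpens) : Ideal Γ(X, U.1) where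
  carrier := {x | ∀ hη : genericPoint X ∈ U.1, ∃ l ∈ L.ideal U, gen U.1 hη x = gen U.1 hη l * φ}
  add_mem' {a b} ha hb hη := by
    obtain ⟨l, hl, h⟩ := ha hη; obtain ⟨l', hl', h'⟩ := hb hη
    exact ⟨l + l', add_mem hl hl', by rw [map_add, map_add, add_mul, h, h']⟩
  zero_mem' hη := ⟨0, zero_mem _, by simp⟩
  smul_mem' c {a} ha hη := by
    obtain ⟨l, hl, h⟩ := ha hη
    exact ⟨c * l, Ideal.mul_mem_left _ c hl, by rw [smul_eq_mul, map_mul, map_mul, h, mul_assoc]⟩

theorem map_mulIdeal (L : X.IdealSheafData) (φ : X.functionField)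
    (hL : L ≤ denom (fun _ : Unit => φ)) (U : X.affineOpens) (g : Γ(X, U.1)) :
    (mulIdeal L φ U).map (X.presheaf.map (homOfLE (X.basicOpen_le g)).op).hom =
      mulIdeal L φ (X.affineBasicOpen g) := by
  set r := (X.presheaf.map (homOfLE (X.basicOpen_le g)).op).hom with hrdef
  refine le_antisymm (Ideal.map_le_iff_le_comap.2 fun x hx hη => ?_) fun (y : Γ(X, X.basicOpen g)) hy => ?_
  · obtain ⟨l, hl, hlx⟩ := hx (X.basicOpen_le g hη)
    have h : gen (X.basicOpen g) hη (r x) = gen (X.basicOpen g) hη (r l) * φ := by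
      rw [hrdef, gen_res, gen_res, hlx]
    refine ⟨r l, ?_, h⟩
    rw [← L.map_ideal_basicOpen U g]
    exact Ideal.mem_map_of_mem _ hl
  · by_cases hη : genericPoint X ∈ X.basicOpen g
    swap
    · haveI := subsingleton_of_notMem hη
      rw [Subsingleton.elim (α := Γ(X, X.basicOpen g)) y 0]
      exact zero_mem _
    have hy₂ : ∃ l' : Γ(X, X.basicOpen g), l' ∈ L.ideal (X.affineBasicOpen g) ∧
        gen (X.basicOpen g) hη y = gen (X.basicOpen g) hη l' * φ := hy hη
    obtain ⟨l', hl', hy'⟩ := hy₂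
    rw [← L.map_ideal_basicOpen U g] at hl'
    letI : Algebra Γ(X, U.1) Γ(X, X.basicOpen g) := r.toAlgebra
    haveI : IsLocalization.Away g Γ(X, X.basicOpen g) := U.2.isLocalization_basicOpen g
    obtain ⟨⟨⟨l, hl⟩, ⟨_, n, rfl⟩⟩, h⟩ :=
      (IsLocalization.mem_map_algebraMap_iff (Submonoid.powers g) Γ(X, X.basicOpen g)).1 hl'
    have h' : l' * r g ^ n = r l := by rw [← map_pow]; exact h
    have hu : IsUnit (r g) := RingedSpace.isUnit_res_basicOpen _ g
    have hη' := X.basicOpen_le g hη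
    obtain ⟨s, hs⟩ := hL U hl hη' ()
    have hsI : s ∈ mulIdeal L φ U := fun h => ⟨l, hl, hs.symm⟩
    rw [← Ideal.mul_unit_mem_iff_mem _ (hu.pow n)]
    convert Ideal.mem_map_of_mem r hsI using 1
    refine gen_injective _ hη ?_
    change gen (X.basicOpen g) hη _ = gen (X.basicOpen g) hη _
    rw [map_mul, hy', mul_right_comm, ← map_mul, h', hrdef, gen_res, gen_res, hs]

/-- The product sheaf of an ideal with a rational function. -/
def mulFrac (L : X.IdealSheafData) (φ : X.functionField) (hL : L ≤ denom (fun _ : Unit => φ)) :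
    X.IdealSheafData where
  ideal := mulIdeal L φ
  map_ideal_basicOpen := map_mulIdeal L φ hL

theorem exists_denom_ne_zero (φ : ι → X.functionField) (U : X.affineOpens) (hη : genericPoint X ∈ U.1) :
    ∃ x ∈ denomIdeal φ U.1, x ≠ 0 := by
  classical
  haveI : Nonempty U.1 := ⟨⟨_, hη⟩⟩
  haveI := functionField_isFractionRing_of_isAffineOpen X U.1 U.2
  have h : ∀ i, ∃ a s : Γ(X, U.1), s ≠ 0 ∧ φ i * gen U.1 hη s = gen U.1 hη a := fun i => by
    obtain ⟨⟨a, s⟩, hs⟩ := IsLocalization.surj (nonZeroDivisors Γ(X, U.1)) (φ i)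
    exact ⟨a, s.1, nonZeroDivisors.ne_zero s.2, hs⟩
  choose a s hs0 hs using h
  refine ⟨∏ i, s i, fun _ i => ?_, Finset.prod_ne_zero_iff.2 fun i _ => hs0 i⟩
  obtain ⟨c, hc⟩ := Finset.dvd_prod_of_mem s (Finset.mem_univ i)
  refine ⟨a i * c, ?_⟩
  rw [hc, map_mul, map_mul, ← hs i]
  ring

theorem generic_notMem_support (φ : ι → X.functionField) : genericPoint X ∉ (denom φ).support := by
  obtain ⟨_, ⟨U, hU, rfl⟩, hη, -⟩ :=
    X.isBasis_affineOpens.exists_subset_of_mem_open (Set.mem_univ (genericPoint X)) isOpen_univ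
  obtain ⟨x, hx, hx0⟩ := exists_denom_ne_zero φ ⟨U, hU⟩ hη
  rw [Scheme.IdealSheafData.mem_support_iff_of_mem (U := ⟨U, hU⟩) hη, Scheme.mem_zeroLocus_iff]
  intro h
  exact h x hx ((X.mem_basicOpen x _ hη).2
    (Ne.isUnit fun h0 => hx0 (gen_injective U hη (h0.trans (map_zero (gen U hη)).symm))))

/-- Every nonzero ideal contains an invertible one, on a scheme with an ample module. -/
theorem exists_cartier_le [IsNoetherian X] {M : X.Modules} (hM : CohB1.IsAmple M) (D : X.IdealSheafData)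
    (hD : genericPoint X ∉ D.support) :
    ∃ L : X.IdealSheafData, L ≤ D ∧ ∀ x : X, ∃ (U : X.affineOpens) (α : Γ(X, U.1)),
      x ∈ U.1 ∧ α ≠ 0 ∧ L.ideal U = Ideal.span {α} := by
  classical
  let W : X.Opens := D.support.compl
  obtain ⟨n, s, hsη, hsW, -⟩ := exists_small_genLocus hM (U := W) (x := genericPoint X) hD
  let P := CohB1.tensorPow M (n + 1)
  have hP : PicF.IsInvertible P := AmpleLib.isInvertible_tensorPow hM.1 _
  let L₀ := PicF2.zeroScheme P s
  have hloc : ∀ x : X, ∃ (U : X.affineOpens) (α : Γ(X, U.1)),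
      x ∈ U.1 ∧ α ≠ 0 ∧ L₀.ideal U = Ideal.span {α} ∧ CohB1.genLocus P s ⊓ U.1 = X.basicOpen α := fun x => by
    obtain ⟨W, e, hxW, he⟩ := ParaFLib.exists_gen_nhd hP x
    obtain ⟨_, ⟨U, hU, rfl⟩, hxU, hUW⟩ := X.isBasis_affineOpens.exists_subset_of_mem_open hxW W.2
    have he' := he.res (show U ≤ W from hUW)
    obtain ⟨c, hc⟩ := (he' U le_rfl).2 (AmpleLib.resT (AmpleLib.sec s) (O := U))
    have hc' : c • P.presheaf.map (homOfLE (show U ≤ W from hUW)).op e = AmpleLib.resT (AmpleLib.sec s) (O := U) := by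
      rw [← hc]
      show _ = c • _
      rw [ParaFLib.res_res]
    have hg := AmpleLib.genLocus_inf_eq_basicOpen s he' hc'
    refine ⟨⟨U, hU⟩, c, hxU, fun h0 => ?_, ?_, hg⟩
    · have h1 := hg.le (show genericPoint X ∈ CohB1.genLocus P s ⊓ U from ⟨hsη, generic_mem ⟨x, hxU⟩⟩)
      rw [h0, Scheme.basicOpen_zero] at h1
      exact h1
    · rw [ZeroSchemeLib.zeroScheme_ideal hP, ZeroSchemeLib.colonIdeal_of_gen s he' hc']
  choose U α hxU hα hL₀ hg using hloc
  have hsupp : D.support ≤ L₀.support := fun x hx => by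
    show x ∈ L₀.support
    rw [Scheme.IdealSheafData.mem_support_iff_of_mem (U := U x) (hxU x), hL₀, Scheme.zeroLocus_span,
      Scheme.mem_zeroLocus_iff]
    simp only [Set.mem_singleton_iff, forall_eq]
    intro h
    exact hsW ((hg x).ge h).1 hx
  have hrad : L₀ ≤ D.radical := by
    rw [← Scheme.IdealSheafData.vanishingIdeal_support]
    exact Scheme.IdealSheafData.le_support_iff_le_vanishingIdeal.1 hsupp
  obtain ⟨t, ht⟩ := isCompact_univ.elim_finite_subcover (fun x : X => ((U x).1 : Set X)) (fun x => (U x).1.isOpen)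
    fun x _ => Set.mem_iUnion.2 ⟨x, hxU x⟩
  have hk : ∀ x : t, ∃ k : ℕ, Ideal.span {α x.1} ^ k ≤ D.ideal (U x.1) := fun x => by
    haveI : IsNoetherianRing Γ(X, (U x.1).1) := IsLocallyNoetherian.component_noetherian (U x.1)
    have h := hrad (U x.1)
    rw [hL₀] at h
    obtain ⟨k, hk⟩ := Ideal.exists_pow_le_of_le_radical_of_fg_radical h (IsNoetherian.noetherian _)
    exact ⟨k, hk⟩
  choose k hk using hk
  let N := Finset.univ.sup k
  refine ⟨L₀ ^ N, ?_, fun x => ⟨U x, α x ^ N, hxU x, pow_ne_zero _ (hα x), ?_⟩⟩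
  · refine Scheme.IdealSheafData.le_of_iSup_eq_top (fun x : t => U x.1) (top_le_iff.1 fun y _ => ?_) fun x => ?_
    · obtain ⟨x, hx⟩ := Set.mem_iUnion.1 (ht (Set.mem_univ y))
      obtain ⟨hxt, hyx⟩ := Set.mem_iUnion.1 hx
      exact Opens.mem_iSup.2 ⟨⟨x, hxt⟩, hyx⟩
    · rw [Scheme.IdealSheafData.ideal_pow, Pi.pow_apply, hL₀]
      exact (Ideal.pow_le_pow_right (Finset.le_sup (Finset.mem_univ x))).trans (hk x)
  · rw [Scheme.IdealSheafData.ideal_pow, Pi.pow_apply, hL₀, Ideal.span_singleton_pow]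

/-- An ideal generated locally by the multiples of given rational functions by an invertible ideal. -/
theorem exists_ideal [IsNoetherian X] {M : X.Modules} (hM : CohB1.IsAmple M) (φ : ι → X.functionField) :
    ∃ I : X.IdealSheafData, ∀ x : X, ∃ (U : X.affineOpens) (hη : genericPoint X ∈ U.1) (α : Γ(X, U.1))
      (t : ι → Γ(X, U.1)), x ∈ U.1 ∧ gen U.1 hη α ≠ 0 ∧ (∀ i, gen U.1 hη (t i) = gen U.1 hη α * φ i) ∧
        I.ideal U = Ideal.span (Set.range t) := by
  obtain ⟨L, hLD, hL⟩ := exists_cartier_le hM (denom φ) (generic_notMem_support φ)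
  have hLi : ∀ i, L ≤ denom (fun _ : Unit => φ i) := fun i V => fun z hz => fun hη _ => hLD V hz hη i
  refine ⟨⨆ i, mulFrac L (φ i) (hLi i), fun x => ?_⟩
  obtain ⟨U, α, hxU, hα, hI⟩ := hL x
  have hη : genericPoint X ∈ U.1 := generic_mem ⟨x, hxU⟩
  have ht : ∀ i, ∃ t, gen U.1 hη t = gen U.1 hη α * φ i := fun i => by
    obtain ⟨r, hr⟩ := hLD U (hI.ge (Ideal.mem_span_singleton_self α)) hη i
    exact ⟨r, hr.symm⟩
  choose t ht using ht
  refine ⟨U, hη, α, t, hxU, fun h0 => hα (gen_injective _ hη (h0.trans (map_zero (gen U.1 hη)).symm)), ht, ?_⟩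
  rw [Scheme.IdealSheafData.ideal_iSup, iSup_apply]
  refine le_antisymm (iSup_le fun i => fun z hz => ?_) (Ideal.span_le.2 ?_)
  · obtain ⟨l, hl, hz'⟩ := (hz : z ∈ mulIdeal L (φ i) U) hη
    obtain ⟨c, rfl⟩ := Ideal.mem_span_singleton'.1 (hI.le hl)
    rw [map_mul, mul_assoc, ← ht i, ← map_mul] at hz'
    rw [gen_injective _ hη hz']
    exact Ideal.mul_mem_left _ _ (Ideal.subset_span ⟨i, rfl⟩)
  · rintro _ ⟨i, rfl⟩
    exact Submodule.mem_iSup_of_mem i (show t i ∈ mulIdeal L (φ i) U from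
      fun _ => ⟨α, hI.ge (Ideal.mem_span_singleton_self α), ht i⟩)

end Groth.Agent.BirBlowLib
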