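import Mathlib
import Groth.Agent.AmpleEmb.Immersion
import Groth.Agent.ProjCoh.PSData

/-!
# The charts of a closed subscheme of projective space over a scheme
-/

set_option autoImplicit false
set_option backward.isDefEq.respectTransparency false
set_option linter.style.haveILetI false

universe u

open CategoryTheory CategoryTheory.Limits AlgebraicGeometry TopologicalSpace
open Groth.Agent.AmpleEmb Groth.Agent.AmpleLib Groth.Agent.ProjCoh

noncomputable section

namespace Groth.Agent.BirBlowLib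

/-- The cocycle identity of the coordinate ratios. -/
theorem coordRatio_cocycle {N : ℕ} (R : Type u) [CommRing R] (a c b : Fin (N + 1)) :
    (CohB1.ProjSpace N R).presheaf.map
        (homOfLE (inf_le_left : stdOpen N R a ⊓ stdOpen N R c ≤ stdOpen N R a)).op (coordRatio N R a b) =
      (CohB1.ProjSpace N R).presheaf.map
          (homOfLE (inf_le_right : stdOpen N R a ⊓ stdOpen N R c ≤ stdOpen N R c)).op (coordRatio N R c b) *
        (CohB1.ProjSpace N R).presheaf.map
          (homOfLE (inf_le_left : stdOpen N R a ⊓ stdOpen N R c ≤ stdOpen N R a)).op (coordRatio N R a c) := by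
  let W := stdOpen N R a ⊓ stdOpen N R c
  have hsmul : ∀ (p q : Fin (N + 1)) (h : W ≤ stdOpen N R p),
      (CohB1.ProjSpace N R).presheaf.map (homOfLE h).op (coordRatio N R p q) • resT (sec (coordSec N R p)) (O := W) =
        resT (sec (coordSec N R q)) (O := W) := fun p q h => by
    have h1 := congrArg (fun v => (Twist.twistProjSpace N R 1).presheaf.map (homOfLE h).op v) (coordRatio_smul N R p q)
    have h2 : ∀ v, (Twist.twistProjSpace N R 1).presheaf.map (homOfLE h).op (coordRatio N R p q • v) =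
        (CohB1.ProjSpace N R).presheaf.map (homOfLE h).op (coordRatio N R p q) •
          (Twist.twistProjSpace N R 1).presheaf.map (homOfLE h).op v :=
      fun v => (Twist.twistProjSpace N R 1).map_smul (homOfLE h) _ v
    rw [h2] at h1
    simpa only [resT, ParaFLib.res_res] using h1
  refine ((gen_coordSec N R a).res (inf_le_left : W ≤ _) W le_rfl).1 ?_
  show _ • _ = _ • _
  simp only [resT, ParaFLib.res_res]
  show _ • resT (sec (coordSec N R a)) (O := W) = _ • resT (sec (coordSec N R a)) (O := W)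
  rw [hsmul a b inf_le_left, mul_smul, hsmul a c inf_le_left, hsmul c b inf_le_right]

variable {X X' : Scheme.{u}} {N : ℕ} (i : X' ⟶ CohB1.ProjSpaceOver N X)

/-- The standard opens of the subscheme. -/
abbrev cOpen (a : Fin (N + 1)) : X'.Opens := (i ≫ ProjMap.toInt X N) ⁻¹ᵁ stdOpen N (ULift.{u} ℤ) a

/-- The ratios on the standard opens of the subscheme. -/
def ratio (a b : Fin (N + 1)) : Γ(X', cOpen i a) :=
  (i ≫ ProjMap.toInt X N).app (stdOpen N (ULift.{u} ℤ) a) (coordRatio N (ULift.{u} ℤ) a b)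

theorem iSup_cOpen : ⨆ a, cOpen i a = ⊤ :=
  (Scheme.Hom.preimage_iSup (i ≫ ProjMap.toInt X N) _).symm.trans
    ((congrArg ((i ≫ ProjMap.toInt X N) ⁻¹ᵁ ·) (iSup_stdOpen N (ULift.{u} ℤ))).trans (Scheme.Hom.preimage_top _))

theorem basicOpen_ratio (a b : Fin (N + 1)) : X'.basicOpen (ratio i a b) = cOpen i a ⊓ cOpen i b := by
  refine (Scheme.preimage_basicOpen (i ≫ ProjMap.toInt X N) _).symm.trans ?_
  rw [basicOpen_coordRatio]
  rfl

theorem ratio_cocycle (a c b : Fin (N + 1)) (x : X') (ha : x ∈ cOpen i a) (hc : x ∈ cOpen i c) :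
    X'.presheaf.germ (cOpen i a) x ha (ratio i a b) =
      X'.presheaf.germ (cOpen i c) x hc (ratio i c b) * X'.presheaf.germ (cOpen i a) x ha (ratio i a c) := by
  let q := i ≫ ProjMap.toInt X N
  have hW : x ∈ q ⁻¹ᵁ (stdOpen N (ULift.{u} ℤ) a ⊓ stdOpen N (ULift.{u} ℤ) c) := ⟨ha, hc⟩
  have h := congrArg (fun v => X'.presheaf.germ _ x hW (q.app _ v)) (coordRatio_cocycle (ULift.{u} ℤ) a c b)
  simp only [map_mul] at h
  have key : ∀ {O W : (CohB1.ProjSpace N (ULift.{u} ℤ)).Opens} (hle : W ≤ O) (s : Γ(CohB1.ProjSpace N (ULift.{u} ℤ), O))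
      (hx : x ∈ q ⁻¹ᵁ W), X'.presheaf.germ (q ⁻¹ᵁ W) x hx (q.app W ((CohB1.ProjSpace N (ULift.{u} ℤ)).presheaf.map (homOfLE hle).op s)) =
        X'.presheaf.germ (q ⁻¹ᵁ O) x (q.preimage_mono hle hx) (q.app O s) := fun hle s hx => by
    exact (congrArg (X'.presheaf.germ (q ⁻¹ᵁ _) x hx)
      (ConcreteCategory.congr_hom (q.naturality (homOfLE hle).op) s)).trans (X'.presheaf.germ_res_apply _ x hx _)
  rw [key inf_le_left _ hW, key inf_le_right _ hW, key inf_le_left _ hW] at h
  exact h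

variable [IsClosedImmersion i]

theorem isAffineOpen_cOpen_inf {U : X.Opens} (hU : IsAffineOpen U) (a : Fin (N + 1)) :
    IsAffineOpen (cOpen i a ⊓ (i ≫ CohB1.ProjSpaceOver.toBase N X) ⁻¹ᵁ U) := by
  rw [Scheme.Hom.comp_preimage]
  show IsAffineOpen ((i ≫ ProjMap.toInt X N) ⁻¹ᵁ _ ⊓ _)
  rw [Scheme.Hom.comp_preimage, ← Scheme.Hom.preimage_inf]
  exact (isAffineOpen_overOpen_inf hU a).preimage i

/-- The rings of the charts are generated by the base and the ratios. -/
theorem closure_chart {U : X.Opens} (hU : IsAffineOpen U) (a : Fin (N + 1)) (V : X'.Opens)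
    (hV : V = cOpen i a ⊓ (i ≫ CohB1.ProjSpaceOver.toBase N X) ⁻¹ᵁ U)
    (e : V ≤ (i ≫ CohB1.ProjSpaceOver.toBase N X) ⁻¹ᵁ U) (e' : V ≤ cOpen i a) :
    Subring.closure (Set.range ((i ≫ CohB1.ProjSpaceOver.toBase N X).appLE U V e).hom ∪
      Set.range (fun b => X'.presheaf.map (homOfLE e').op (ratio i a b))) = ⊤ := by
  let p := CohB1.ProjSpaceOver.toBase N X
  let f := i ≫ p
  let q := i ≫ ProjMap.toInt X N
  let D := stdOpen N (ULift.{u} ℤ) a
  have hD : IsAffineOpen D := isAffineOpen_stdOpen N _ a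
  let O := overOpen (Y := X) (n := N) a ⊓ p ⁻¹ᵁ U
  have hO : IsAffineOpen O := isAffineOpen_overOpen_inf hU a
  have hVO : V = i ⁻¹ᵁ O := hV.trans (by rfl)
  have hVa : IsAffineOpen V := hVO ▸ hO.preimage i
  set A' := Subring.closure (Set.range (f.appLE U V e).hom ∪
    Set.range (fun b => X'.presheaf.map (homOfLE e').op (ratio i a b))) with hA'
  have hq : V ≤ q ⁻¹ᵁ D := e'
  have hmemq : ∀ z, (q.appLE D V hq).hom z ∈ A' := fun z => by
    obtain ⟨P, rfl⟩ := ratio_generated_proj (CohB1.polyGrading N (ULift.{u} ℤ))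
      (coordForm N (ULift.{u} ℤ)) MvPolynomial.adjoin_range_X a z
    induction P using MvPolynomial.induction_on with
    | C r =>
      have hint : ∀ ψ : ULift.{u} ℤ →+* Γ(X', V), ψ r ∈ A' := fun ψ => by
        rw [show r = ((r.down : ℤ) : ULift.{u} ℤ) from ULift.ext _ _ (by simp), map_intCast]
        exact intCast_mem _ _
      rw [MvPolynomial.eval₂Hom_C]
      exact hint ((q.appLE D V hq).hom.comp _)
    | add P Q hP hQ =>
      rw [map_add, map_add]
      exact add_mem hP hQ
    | mul_X P b hP =>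
      rw [map_mul, map_mul, MvPolynomial.eval₂Hom_X']
      exact mul_mem hP (Subring.subset_closure (Or.inr ⟨b, rfl⟩))
  let α : Γ(X, U) →+* A' := (f.appLE U V e).hom.codRestrict A' fun x => Subring.subset_closure (Or.inl ⟨x, rfl⟩)
  let β : Γ(CohB1.ProjSpace N (ULift.{u} ℤ), D) →+* A' := (q.appLE D V hq).hom.codRestrict A' hmemq
  let κ : CommRingCat.of A' ⟶ Γ(X', V) := CommRingCat.ofHom A'.subtype
  let k : Spec (CommRingCat.of A') ⟶ CohB1.ProjSpaceOver N X :=
    ProjMap.liftOver (Spec.map (CommRingCat.ofHom β) ≫ hD.fromSpec) (Spec.map (CommRingCat.ofHom α) ≫ hU.fromSpec)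
  let k' : Spec (CommRingCat.of A') ⟶ O.toScheme := IsOpenImmersion.lift O.ι k (by
    rw [Scheme.Opens.range_ι]
    rintro _ ⟨z, rfl⟩
    refine ⟨?_, ?_⟩
    · show ProjMap.toInt X N (k z) ∈ D
      rw [← Scheme.Hom.comp_apply, ProjMap.liftOver_toInt, Scheme.Hom.comp_apply, ← SetLike.mem_coe,
        ← hD.range_fromSpec]
      exact ⟨_, rfl⟩
    · show p (k z) ∈ U
      rw [← Scheme.Hom.comp_apply, ProjMap.liftOver_toBase, Scheme.Hom.comp_apply, ← SetLike.mem_coe,
        ← hU.range_fromSpec]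
      exact ⟨_, rfl⟩)
  let m : V.toScheme ⟶ Spec (CommRingCat.of A') := hVa.isoSpec.hom ≫ Spec.map κ
  have hk : m ≫ k = V.ι ≫ i := by
    rw [← cancel_epi hVa.isoSpec.inv]
    simp only [m, Category.assoc, Iso.inv_hom_id_assoc]
    have h1 : hVa.isoSpec.inv ≫ V.ι = hVa.fromSpec := rfl
    rw [reassoc_of% h1]
    refine ProjMap.over_hom_ext ?_ ?_
    · rw [Category.assoc, ProjMap.liftOver_toInt, Category.assoc]
      exact (Category.assoc _ _ _).symm.trans ((congrArg (· ≫ hD.fromSpec) (Spec.map_comp _ _).symm).trans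
        (IsAffineOpen.SpecMap_appLE_fromSpec q hD hVa hq))
    · rw [Category.assoc, ProjMap.liftOver_toBase, Category.assoc]
      exact (Category.assoc _ _ _).symm.trans ((congrArg (· ≫ hU.fromSpec) (Spec.map_comp _ _).symm).trans
        (IsAffineOpen.SpecMap_appLE_fromSpec f hU hVa e))
  haveI : IsAffine O.toScheme := hO
  have key : ∀ V' : X'.Opens, V' = i ⁻¹ᵁ O → ∀ g : V'.toScheme ⟶ O.toScheme, g ≫ O.ι = V'.ι ≫ i →
      IsClosedImmersion g := by
    rintro _ rfl g hg
    rw [show g = i ∣_ O by rw [← cancel_mono O.ι, hg, morphismRestrict_ι]]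
    infer_instance
  have hclosed : IsClosedImmersion (m ≫ k') :=
    key V hVO (m ≫ k') (by rw [Category.assoc, IsOpenImmersion.lift_fac]; exact hk)
  haveI : IsClosedImmersion m := IsClosedImmersion.of_comp m k'
  haveI : IsClosedImmersion (Spec.map κ) := by
    have h : Spec.map κ = hVa.isoSpec.inv ≫ m := by simp only [m, Iso.inv_hom_id_assoc]
    rw [h]
    infer_instance
  refine eq_top_iff.2 fun y _ => ?_
  obtain ⟨z, hz⟩ := (Spec.map κ).app_surjective ⊤ (isAffineOpen_top _) ((Scheme.ΓSpecIso Γ(X', V)).inv y)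
  let w : A' := (Scheme.ΓSpecIso (CommRingCat.of A')).hom z
  have hw : κ w = y := by
    have h := congrArg (fun g => g.hom z) (Scheme.ΓSpecIso_naturality κ)
    simp only [CommRingCat.hom_comp, RingHom.comp_apply] at h
    show κ ((Scheme.ΓSpecIso (CommRingCat.of A')).hom z) = y
    rw [← h]
    show (Scheme.ΓSpecIso Γ(X', V)).hom ((Spec.map κ).app ⊤ z) = y
    rw [hz, ← ConcreteCategory.comp_apply, Iso.inv_hom_id]
    rfl
  rw [← hw]
  exact w.2

end Groth.Agent.BirBlowLib
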