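import Mathlib
import Groth.Agent.AmpleEmb.Compose
import Groth.Agent.BirBlowLib.Core
import Groth.Agent.BirBlowLib.Frac
import Groth.Agent.BirBlowLib.ProjCharts

/-!
# A projective birational morphism to a scheme with an ample module is a blowing up
-/

set_option autoImplicit false
set_option backward.isDefEq.respectTransparency false
set_option linter.style.haveILetI false

universe u

open CategoryTheory CategoryTheory.Limits AlgebraicGeometry TopologicalSpace
open Groth.Agent.AmpleEmb Groth.Agent.BlowChartLib Groth.Agent.BlowExistsLib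

noncomputable section

namespace Groth.Agent.BirBlowLib

variable {X X' : Scheme.{u}} [IsIntegral X] [IsIntegral X']

/-- A morphism restricting to an isomorphism over a nonempty open respects the generic points and the
function fields. -/
theorem birational_of_iso_over (f : X' ⟶ X) (U : X.Opens) (hU : (U : Set X).Nonempty) (h : IsIso (f ∣_ U)) :
    f (genericPoint X') = genericPoint X ∧ IsIso (f.stalkMap (genericPoint X')) := by
  haveI := h
  have hsurj : Function.Surjective (f ∣_ U) := fun y =>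
    ⟨inv (f ∣_ U) y, by rw [← Scheme.Hom.comp_apply, IsIso.inv_hom_id]; rfl⟩
  obtain ⟨x, hx⟩ := hsurj ⟨genericPoint X, generic_mem hU⟩
  have hfx : f x.1 = genericPoint X := by rw [← morphismRestrict_base_coe f U x, hx]
  have hη : genericPoint X' ∈ f ⁻¹ᵁ U := generic_mem ⟨x.1, x.2⟩
  refine ⟨Specializes.antisymm ?_ ((genericPoint_spec X).specializes trivial) |>.eq, ?_⟩
  · rw [← hfx]
    exact ((genericPoint_spec X').specializes trivial).map f.continuous
  · exact ((MorphismProperty.isomorphisms CommRingCat).arrow_mk_iso_iff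
      (morphismRestrictStalkMap f U ⟨_, hη⟩)).1 (inferInstanceAs (IsIso ((f ∣_ U).stalkMap _)))

/-- The comparison of the function fields. -/
def ffMap (f : X' ⟶ X) (h : f (genericPoint X') = genericPoint X) : X.functionField →+* X'.functionField :=
  (X.presheaf.stalkSpecializes (specializes_of_eq h) ≫ f.stalkMap (genericPoint X')).hom

theorem ffMap_gen (f : X' ⟶ X) (h : f (genericPoint X') = genericPoint X) {U : X.Opens} (hη : genericPoint X ∈ U)
    {V : X'.Opens} (hη' : genericPoint X' ∈ V) (e : V ≤ f ⁻¹ᵁ U) (r : Γ(X, U)) :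
    ffMap f h (gen U hη r) = gen V hη' (f.appLE U V e r) := by
  show f.stalkMap (genericPoint X') (X.presheaf.stalkSpecializes _ (X.presheaf.germ U _ hη r)) = _
  rw [TopCat.Presheaf.germ_stalkSpecializes_apply, Scheme.Hom.germ_stalkMap_apply]
  exact (X'.presheaf.germ_res_apply (homOfLE e) _ hη' _).symm

theorem ffMap_bijective (f : X' ⟶ X) (h : f (genericPoint X') = genericPoint X)
    (hs : IsIso (f.stalkMap (genericPoint X'))) : Function.Bijective (ffMap f h) := by
  haveI := hs
  haveI : IsIso (X.presheaf.stalkSpecializes (specializes_of_eq h)) :=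
    ⟨X.presheaf.stalkSpecializes (specializes_of_eq h.symm),
      by rw [TopCat.Presheaf.stalkSpecializes_comp]; exact TopCat.Presheaf.stalkSpecializes_refl _ _,
      by rw [TopCat.Presheaf.stalkSpecializes_comp]; exact TopCat.Presheaf.stalkSpecializes_refl _ _⟩
  exact ConcreteCategory.bijective_of_isIso
    (X.presheaf.stalkSpecializes (specializes_of_eq h) ≫ f.stalkMap (genericPoint X'))

/-- A projective birational morphism to a Noetherian integral scheme with an ample module is a blow-up. -/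
theorem exists_isBlowUp_of_birational [IsNoetherian X] {M : X.Modules} (hM : CohB1.IsAmple M)
    {N : ℕ} (i : X' ⟶ CohB1.ProjSpaceOver N X) [IsClosedImmersion i]
    (f : X' ⟶ X) (hi : i ≫ CohB1.ProjSpaceOver.toBase N X = f)
    (hgen : f (genericPoint X') = genericPoint X) (hbir : IsIso (f.stalkMap (genericPoint X'))) :
    ∃ I : X.IdealSheafData, BlowUp.IsBlowUp f I := by
  classical
  subst hi
  let f := i ≫ CohB1.ProjSpaceOver.toBase N X
  obtain ⟨a₀, ha₀⟩ := Opens.mem_iSup.1 ((iSup_cOpen i).ge (Opens.mem_top (genericPoint X')))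
  let S := {b : Fin (N + 1) // genericPoint X' ∈ cOpen i b}
  let ρ : ∀ (a : Fin (N + 1)) (ha : genericPoint X' ∈ cOpen i a), Fin (N + 1) → X'.functionField :=
    fun a ha b => gen (cOpen i a) ha (ratio i a b)
  choose φ hφ using fun b : S => (ffMap_bijective f hgen hbir).2 (ρ a₀ ha₀ b.1)
  obtain ⟨I, hI⟩ := exists_ideal hM φ
  choose U hη α t hxU hα ht hIU using hI
  let V : X → S → X'.affineOpens := fun x a => ⟨_, isAffineOpen_cOpen_inf i (U x).2 a.1⟩
  have hVη : ∀ x a, genericPoint X' ∈ (V x a).1 := fun x a =>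
    ⟨a.2, show f (genericPoint X') ∈ (U x).1 from hgen ▸ hη x⟩
  have hθ : ∀ x a r, ffMap f hgen (gen (U x).1 (hη x) r) =
      gen (V x a).1 (hVη x a) (f.appLE (U x).1 (V x a).1 inf_le_right r) :=
    fun x a r => ffMap_gen f hgen (hη x) (hVη x a) inf_le_right r
  have hunit : ∀ b : S, ρ a₀ ha₀ b.1 ≠ 0 := fun b => by
    have hmem : genericPoint X' ∈ X'.basicOpen (ratio i a₀ b.1) := by
      rw [basicOpen_ratio]; exact ⟨ha₀, b.2⟩
    exact ((X'.mem_basicOpen _ _ ha₀).1 hmem).ne_zero
  let y : ∀ x (a : S), Fin (N + 1) → Γ(X', (V x a).1) := fun x a b =>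
    X'.presheaf.map (homOfLE (inf_le_left : (V x a).1 ≤ cOpen i a.1)).op (ratio i a.1 b)
  have hy : ∀ x (a b : S), (f.appLE (U x).1 (V x a).1 inf_le_right) (t x b) =
      y x a b.1 * (f.appLE (U x).1 (V x a).1 inf_le_right) (t x a) := fun x a b => by
    refine gen_injective (V x a).1 (hVη x a) ?_
    rw [map_mul, ← hθ x a, ← hθ x a, ht, ht, map_mul, map_mul, hφ, hφ,
      show gen (V x a).1 (hVη x a) (y x a b.1) = ρ a.1 a.2 b.1 from gen_res _ _ _,
      show ρ a₀ ha₀ b.1 = ρ a.1 a.2 b.1 * ρ a₀ ha₀ a.1 from ratio_cocycle i a₀ a.1 b.1 _ ha₀ a.2]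
    ring
  have hne : ∀ x (a : S), (f.appLE (U x).1 (V x a).1 inf_le_right) (t x a) ≠ 0 := fun x a h0 => by
    have h := hθ x a (t x a)
    rw [h0, map_zero, ht, map_mul, hφ] at h
    refine (mul_ne_zero ?_ (hunit a)) h
    exact (map_ne_zero_iff _ (ffMap_bijective f hgen hbir).1).2 (hα x)
  have hmem : ∀ x (a : S), t x a ∈ I.ideal (U x) := fun x a => hIU x ▸ Ideal.subset_span ⟨a, rfl⟩
  have hchart : ∀ x (a : S), (V x a).1 ≤ chartOpen I (U x) (t x a) f ∧
      ∃ m : (V x a).1.toScheme ⟶ Spec (CommRingCat.of (ChartAlg I (U x) (t x a))),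
        IsIso m ∧ m ≫ chartMap I (U x) (t x a) = (V x a).1.ι ≫ f := fun x a => by
    haveI : Nonempty (V x a).1 := ⟨⟨_, hVη x a⟩⟩
    refine exists_iso_chart f I (hmem x a) (V x a) inf_le_right (fun r r' h => ?_)
      (mem_nonZeroDivisors_of_ne_zero (hne x a)) (fun z hz => ?_) (top_le_iff.1 ?_)
    · have h' := congrArg (gen (V x a).1 (hVη x a)) h
      exact gen_injective (U x).1 (hη x) ((ffMap_bijective f hgen hbir).1
        ((hθ x a r).trans (h'.trans (hθ x a r').symm)))
    · have hle : (I.ideal (U x)).map (f.appLE (U x).1 (V x a).1 inf_le_right).hom ≤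
          Ideal.span {(f.appLE (U x).1 (V x a).1 inf_le_right).hom (t x a)} := by
        rw [hIU x, Ideal.map_span, Ideal.span_le]
        rintro _ ⟨_, ⟨b, rfl⟩, rfl⟩
        exact Ideal.mem_span_singleton'.2 ⟨y x a b.1, (hy x a b).symm⟩
      obtain ⟨c, hc⟩ := Ideal.mem_span_singleton'.1 (hle (Ideal.mem_map_of_mem _ hz))
      exact ⟨c, hc.symm⟩
    · rw [← closure_chart i (U x).2 a.1 (V x a).1 rfl inf_le_right inf_le_left, Subring.closure_le]
      rintro z (hz | ⟨b, rfl⟩)
      · exact Subring.subset_closure (Or.inl hz)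
      by_cases hb : genericPoint X' ∈ cOpen i b
      · exact Subring.subset_closure (Or.inr ⟨t x ⟨b, hb⟩, hmem x ⟨b, hb⟩, hy x a ⟨b, hb⟩⟩)
      · have h0 : y x a b = 0 := by
          refine gen_injective (V x a).1 (hVη x a) ?_
          rw [map_zero]
          by_contra h
          have h2 := (X'.mem_basicOpen (y x a b) _ (hVη x a)).2 (Ne.isUnit h)
          rw [Scheme.basicOpen_res, basicOpen_ratio] at h2
          exact hb h2.2.2
        show y x a b ∈ Subring.closure _
        rw [h0]
        exact zero_mem _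
  have hcov' : ∀ z : X', ∃ p : X × S, z ∈ chartOpen I (U p.1) (t p.1 p.2) f := fun z => by
    obtain ⟨a, ha⟩ := Opens.mem_iSup.1 ((iSup_cOpen i).ge (Opens.mem_top z))
    exact ⟨(f z, ⟨a, generic_mem ⟨z, ha⟩⟩), (hchart (f z) ⟨a, generic_mem ⟨z, ha⟩⟩).1 ⟨ha, hxU (f z)⟩⟩
  have hc := isEffCartier_of_charts f I (fun p : X × S => U p.1) (fun p => t p.1 p.2) hcov'
  refine ⟨I, isBlowUp_of_charts f I (fun p : X × S => U p.1) (fun p => t p.1 p.2) (fun p => hmem p.1 p.2)
    (fun W g hg w => ?_) hcov' (fun p => ?_)⟩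
  · obtain ⟨_, ⟨a, rfl⟩, ha⟩ := BlowExistsLib.exists_mem_chartOpen hg (Set.range (t (g w))) (hIU (g w)).symm w (hxU (g w))
    exact ⟨(g w, a), ha⟩
  · obtain ⟨hle, m, hm, hmc⟩ := hchart p.1 p.2
    have heq := chartOpen_eq f I (hmem p.1 p.2) hc (V p.1 p.2).1 ⟨_, hVη p.1 p.2⟩ hle m hmc
    rw [heq]
    exact ⟨m, hm, hmc⟩

end Groth.Agent.BirBlowLib
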